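import Groth.Agent.Lib.FibPd.GeomOpen
import Groth.Agent.Lib.AlgMisc.GeomAtBC
import Groth.Agent.Lib.AlgMisc.GeomNormLocal

/-!
# Geometric normality of a morphism at a point, by field valued points of the base
-/

set_option autoImplicit false
set_option backward.isDefEq.respectTransparency false
set_option linter.style.haveILetI false
universe u

open CategoryTheory CategoryTheory.Limits AlgebraicGeometry
open scoped TensorProduct
open Groth.Agent.Lib.AlgMisc.GeomNormLocal (IsND isND_equiv isND_stalk_Spec_iff)

namespace GrothLib.GeomNorm5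

variable {X Y : Scheme.{u}}

/-- After base change to any field the points over `x` are normal. -/
def NormAt (f : X ⟶ Y) (x : X) : Prop :=
  ∀ (L : Type u) [Field L] (s : Spec (CommRingCat.of L) ⟶ Y) (z : ↥(pullback f s)),
    pullback.fst f s z = x → IsND ((pullback f s).presheaf.stalk z)

theorem isND_of_isIso {A B : Scheme.{u}} (g : A ⟶ B) [IsOpenImmersion g] (a : A) :
    IsND (B.presheaf.stalk (g a)) ↔ IsND (A.presheaf.stalk a) :=
  ⟨isND_equiv (asIso (g.stalkMap a)).commRingCatIsoToRingEquiv,
    isND_equiv (asIso (g.stalkMap a)).commRingCatIsoToRingEquiv.symm⟩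

theorem normAt_iff_fibre (f : X ⟶ Y) [LocallyOfFinitePresentation f] (x : X) :
    NormAt f x ↔ ∀ (K : Type u) [Field K] [Algebra (IsLocalRing.ResidueField (Y.presheaf.stalk (f.base x))) K],
        Module.Finite (IsLocalRing.ResidueField (Y.presheaf.stalk (f.base x))) K →
        ∀ x' : ↥(FBase.bc (f.fiberToSpecResidueField (f.base x)) K),
          (FBase.bcπ (f.fiberToSpecResidueField (f.base x)) K).base x' = f.asFiber x →
          IsDomain ((FBase.bc (f.fiberToSpecResidueField (f.base x)) K).presheaf.stalk x') ∧
            IsIntegrallyClosed ((FBase.bc (f.fiberToSpecResidueField (f.base x)) K).presheaf.stalk x') := by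
  constructor
  · intro h K _ _ _ x' hx'
    let g' := Spec.map (CommRingCat.ofHom
      (algebraMap (IsLocalRing.ResidueField (Y.presheaf.stalk (f x))) K))
    let e := pullbackLeftPullbackSndIso f (Y.fromSpecResidueField (f x)) g'
    refine (isND_of_isIso e.hom x').1 (h K _ (e.hom x') ?_)
    rw [← Scheme.Hom.comp_apply, pullbackLeftPullbackSndIso_hom_fst, Scheme.Hom.comp_apply]
    exact (congrArg (f.fiberι (f x)) hx').trans (f.fiberι_asFiber x)
  · intro h
    haveI : IsLocallyNoetherian (f.fiber (f x)) :=
      LocallyOfFiniteType.isLocallyNoetherian (f.fiberToSpecResidueField (f x))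
    have hall := (GrothLib.FibPd.geom_normal_iff (k := IsLocalRing.ResidueField (Y.presheaf.stalk (f x)))
      (f.fiberToSpecResidueField (f x)) (f.asFiber x)).2
      ((GrothLib.FibPd.geom_normal_iff_finite (k := IsLocalRing.ResidueField (Y.presheaf.stalk (f x)))
        (f.fiberToSpecResidueField (f x)) (f.asFiber x)).1 h)
    intro L _ s z hz
    obtain ⟨⟨y, φ⟩, rfl⟩ : ∃ yφ : Σ y, Y.residueField y ⟶ CommRingCat.of L,
        Spec.map yφ.2 ≫ Y.fromSpecResidueField yφ.1 = s :=
      ⟨⟨s (IsLocalRing.closedPoint L), Y.descResidueField (Scheme.stalkClosedPointTo s)⟩,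
        Scheme.descResidueField_stalkClosedPointTo_fromSpecResidueField L Y s⟩
    have hy : y = f x := by
      have h0 : (pullback.fst f (Spec.map φ ≫ Y.fromSpecResidueField y) ≫ f) z = f x := congrArg f hz
      rw [pullback.condition] at h0
      exact (Scheme.fromSpecResidueField_apply y _).symm.trans h0
    subst hy
    letI : Algebra (IsLocalRing.ResidueField (Y.presheaf.stalk (f x))) L := φ.hom.toAlgebra
    let e := pullbackLeftPullbackSndIso f (Y.fromSpecResidueField (f x)) (Spec.map φ)
    have hx' : pullback.fst (f.fiberToSpecResidueField (f x)) (Spec.map φ) (e.inv z) = f.asFiber x := by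
      refine (f.fiberι (f x)).isEmbedding.injective ?_
      rw [f.fiberι_asFiber]
      exact (congrArg (fun g : _ ⟶ X => g z)
        (pullbackLeftPullbackSndIso_inv_fst f (Y.fromSpecResidueField (f x)) (Spec.map φ))).trans hz
    have h2 := hall L (e.inv z) hx'
    have h3 := (isND_of_isIso e.hom (e.inv z)).2 h2
    rwa [← Scheme.Hom.comp_apply, Iso.inv_hom_id] at h3

/-- Geometric normality at a point descends along base change. -/
theorem normAt_descend {X' Y' : Scheme.{u}} {q : X ⟶ X'} {f : X ⟶ Y} {f' : X' ⟶ Y'} {b : Y ⟶ Y'}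
    (sq : IsPullback q f f' b) {x : X} (h : NormAt f x) : NormAt f' (q x) := by
  intro L _ s' z' hz'
  obtain ⟨w, hw1, hw2⟩ := Scheme.Pullback.exists_preimage_pullback (f := q) (g := pullback.fst f' s') x z' hz'.symm
  let P := pullback q (pullback.fst f' s')
  let σ := P.fromSpecResidueField w
  let a := σ ≫ pullback.fst q (pullback.fst f' s')
  let c := σ ≫ pullback.snd q (pullback.fst f' s')
  let s := a ≫ f
  let φ := c ≫ pullback.snd f' s'
  have hac : a ≫ q = c ≫ pullback.fst f' s' := by
    simp only [a, c, Category.assoc, pullback.condition]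
  have hsb : s ≫ b = φ ≫ s' := by
    simp only [s, φ, Category.assoc, ← sq.w, ← pullback.condition]
    rw [← Category.assoc a, hac, Category.assoc]
  let m : pullback f s ⟶ pullback f' s' :=
    pullback.lift (pullback.fst f s ≫ q) (pullback.snd f s ≫ φ) (by
      rw [Category.assoc, sq.w, pullback.condition_assoc, hsb]
      exact (Category.assoc _ _ _).symm)
  have hm : IsPullback m (pullback.snd f s) (pullback.snd f' s') φ := by
    have houter := (IsPullback.of_hasPullback f s).paste_horiz sq
    rw [hsb] at houter
    exact IsPullback.of_right (by simpa [m] using houter) (by simp [m]) (IsPullback.of_hasPullback f' s')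
  haveI : Flat φ := by
    obtain ⟨ψ, hψ⟩ : ∃ ψ, Spec.map ψ = φ := ⟨_, Spec.map_preimage φ⟩
    rw [← hψ]
    letI : Algebra L (P.residueField w) := ψ.hom.toAlgebra
    exact Flat.SpecMap_iff.mpr (RingHom.flat_algebraMap_iff.mpr (inferInstance : Module.Flat L (P.residueField w)))
  haveI : Flat m := MorphismProperty.of_isPullback hm.flip inferInstance
  let t : Spec (P.residueField w) ⟶ pullback f s := pullback.lift a (𝟙 _) (by rw [Category.id_comp])
  have htm : t ≫ m = c := by
    apply pullback.hom_ext
    · simp [t, m, hac]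
    · simp [t, m, φ]
      exact Category.id_comp _
  have hmz : m (t (IsLocalRing.closedPoint _)) = z' := by
    rw [← Scheme.Hom.comp_apply, htm, Scheme.Hom.comp_apply, Scheme.fromSpecResidueField_apply]
    exact hw2
  have hfst : pullback.fst f s (t (IsLocalRing.closedPoint _)) = x := by
    rw [← Scheme.Hom.comp_apply, pullback.lift_fst, Scheme.Hom.comp_apply, Scheme.fromSpecResidueField_apply]
    exact hw1
  obtain ⟨hd, hic⟩ := h (P.residueField w) s _ hfst
  generalize t (IsLocalRing.closedPoint _) = z at hmz hd hic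
  subst hmz
  algebraize [(m.stalkMap z).hom]
  haveI : Module.Flat _ _ := Flat.stalkMap m z
  haveI : IsLocalHom (algebraMap ((pullback f' s').presheaf.stalk (m z)) ((pullback f s).presheaf.stalk z)) :=
    inferInstanceAs (IsLocalHom (m.stalkMap z).hom)
  haveI := Module.FaithfullyFlat.of_flat_of_isLocalHom
    (A := (pullback f' s').presheaf.stalk (m z)) (B := (pullback f s).presheaf.stalk z)
  exact Groth.Agent.Lib.AlgMisc.GeomAtBC.isDomain_and_isIntegrallyClosed_of_faithfullyFlat _
    ((pullback f s).presheaf.stalk z)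

/-- Restriction to open subschemes. -/
theorem normAt_restrict {W V : Scheme.{u}} {f : X ⟶ Y} {g : W ⟶ V} (j : W ⟶ X) [IsOpenImmersion j] (i : V ⟶ Y)
    [Mono i] (sq : j ≫ f = g ≫ i) {w : W} (h : NormAt f (j w)) : NormAt g w := by
  intro L _ s z hz
  let n := pullback.map g s f (s ≫ i) j (𝟙 _) i sq.symm (Category.id_comp _).symm
  refine (isND_of_isIso n z).1 (h L (s ≫ i) (n z) ?_)
  rw [← hz, ← Scheme.Hom.comp_apply, pullback.lift_fst, Scheme.Hom.comp_apply]

/-- A flat algebra with geometrically normal points is a normal homomorphism. -/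
theorem isNormalHom_of_normAt (A C : Type u) [CommRing A] [CommRing C] [Algebra A C] [Module.Flat A C]
    (h : ∀ x, NormAt (Spec.map (CommRingCat.ofHom (algebraMap A C))) x) : EGA4.IsNormalHom A C := by
  refine ⟨inferInstance, fun p _ L _ _ _ => ?_⟩
  let _ : Algebra A L := ((algebraMap p.ResidueField L).comp (algebraMap A p.ResidueField)).toAlgebra
  haveI : IsScalarTower A p.ResidueField L := IsScalarTower.of_algebraMap_eq fun _ => rfl
  refine GrothLib.Excellent.isNormalRing_congr ((Algebra.TensorProduct.comm A C L).toRingEquiv.trans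
    (Algebra.TensorProduct.cancelBaseChange A p.ResidueField L L C).symm.toRingEquiv) fun P _ => ?_
  let w : Spec (CommRingCat.of (C ⊗[A] L)) := ⟨P, inferInstance⟩
  let e := pullbackSpecIso A C L
  exact (isND_stalk_Spec_iff _ w).1 ((isND_of_isIso e.inv w).1 (h _ L _ (e.inv w) rfl))

end GrothLib.GeomNorm5
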