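import Groth.Agent.Lib.GeomNorm5.Basic
import Groth.Agent.Lib.FlatLimit.Global
import Mathlib.RingTheory.Extension.Presentation.Core
import Groth.Agent.S2730
import Groth.Agent.Lib.BrnchNhd.Equiv

/-!
# A normal model of a flat algebra with geometrically normal fibres
-/

set_option autoImplicit false
set_option backward.isDefEq.respectTransparency false
set_option linter.style.haveILetI false
universe u

open CategoryTheory CategoryTheory.Limits AlgebraicGeometry
open scoped TensorProduct

namespace GrothLib.GeomNorm5

/-- The good points form an open set. -/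
theorem isOpen_normAt {X Y : Scheme.{u}} (f : X ⟶ Y) [LocallyOfFinitePresentation f] :
    IsOpen {x : X | (f.stalkMap x).hom.Flat ∧ NormAt f x} := by
  convert GrothLib.FibPd.isOpen_flat_geomNormal f using 1
  ext x
  exact and_congr_right fun _ => normAt_iff_fibre f x

/-- Flatness is reached over a subalgebra of finite type. -/
theorem exists_flat_stage (A₀ A C₀ : Type u) [CommRing A₀] [CommRing A] [Algebra A₀ A] [CommRing C₀]
    [Algebra A₀ C₀] [Algebra.FinitePresentation A₀ C₀] [Module.Flat A (A ⊗[A₀] C₀)] :
    ∃ S : Subalgebra A₀ A, S.FG ∧ Module.Flat S (S ⊗[A₀] C₀) := by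
  classical
  obtain ⟨⟨S, hS⟩, hflat⟩ := GrothLib.FlatLimit.exists_stage_flat (A₀ := A₀) (A := A)
    (fun S : {S : Subalgebra A₀ A // S.FG} => S.1)
    (fun S S' => ⟨⟨S.1 ⊔ S'.1, S.2.sup S'.2⟩, Subalgebra.inclusion le_sup_left,
      Subalgebra.inclusion le_sup_right, fun _ => rfl, fun _ => rfl⟩)
    (fun T => ⟨⟨Algebra.adjoin A₀ (T : Set A), Subalgebra.fg_adjoin_finset T⟩,
      fun x hx => ⟨⟨x, Algebra.subset_adjoin hx⟩, rfl⟩⟩)
    (fun S p hp => ⟨S, AlgHom.id _ _, fun _ => rfl, fun x hx => Subtype.ext (hp x hx)⟩)
    C₀ C₀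
  exact ⟨S, hS, hflat⟩

/-- A model over a finitely generated subring. -/
theorem exists_flat_model (A C : Type u) [CommRing A] [CommRing C] [Algebra A C]
    [Algebra.FinitePresentation A C] [Module.Flat A C] :
    ∃ (S : Type u) (_ : CommRing S) (_ : Algebra S A) (D : Type u) (_ : CommRing D) (_ : Algebra S D),
      IsNoetherianRing S ∧ Algebra.FinitePresentation S D ∧ Module.Flat S D ∧ Nonempty (A ⊗[S] D ≃ₐ[A] C) := by
  let P := Algebra.Presentation.ofFinitePresentation A C
  obtain ⟨A₀, iA, iAlg, C₀, iC, iCAlg, hN, hfp, ⟨e⟩⟩ : ∃ (A₀ : Type u) (_ : CommRing A₀) (_ : Algebra A₀ A)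
      (C₀ : Type u) (_ : CommRing C₀) (_ : Algebra A₀ C₀), IsNoetherianRing A₀ ∧ Algebra.FinitePresentation A₀ C₀ ∧
        Nonempty (A ⊗[A₀] C₀ ≃ₐ[A] C) :=
    ⟨P.Core, inferInstance, inferInstance, P.ModelOfHasCoeffs P.Core, inferInstance, inferInstance,
      Algebra.FiniteType.isNoetherianRing ℤ _, inferInstance, ⟨P.tensorModelOfHasCoeffsEquiv P.Core⟩⟩
  haveI : Module.Flat A (A ⊗[A₀] C₀) := Module.Flat.of_linearEquiv e.toLinearEquiv
  obtain ⟨S, hS, hflat⟩ := exists_flat_stage A₀ A C₀
  haveI : Algebra.FiniteType A₀ S := (Subalgebra.fg_iff_finiteType S).1 hS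
  exact ⟨S, inferInstance, inferInstance, S ⊗[A₀] C₀, inferInstance, inferInstance,
    Algebra.FiniteType.isNoetherianRing A₀ S, inferInstance, hflat,
    ⟨(Algebra.TensorProduct.cancelBaseChange A₀ S A A C₀).trans e⟩⟩

/-- Geometric unibranchness ascends along a flat algebra of finite presentation with geometrically normal fibres. -/
theorem isGeomUnibranch_atPrime (A C : Type u) [CommRing A] [CommRing C] [Algebra A C]
    [Algebra.FinitePresentation A C] [Module.Flat A C] (Q : Ideal C) [Q.IsPrime]
    (hn : NormAt (Spec.map (CommRingCat.ofHom (algebraMap A C))) ⟨Q, inferInstance⟩)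
    (hA : CAlg2.IsGeomUnibranch (Localization.AtPrime (Q.comap (algebraMap A C)))) :
    CAlg2.IsGeomUnibranch (Localization.AtPrime Q) := by
  classical
  obtain ⟨S, _, _, D, _, _, _, _, _, ⟨e⟩⟩ := exists_flat_model A C
  haveI : IsNoetherianRing D := Algebra.FiniteType.isNoetherianRing S D
  -- geometric normality on the model
  have sq0 := (IsPullback.of_hasPullback (Spec.map (CommRingCat.ofHom (algebraMap S A)))
    (Spec.map (CommRingCat.ofHom (algebraMap S D))))
  let qD : Spec (CommRingCat.of C) ⟶ Spec (CommRingCat.of D) :=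
    Spec.map (CommRingCat.ofHom (e.toRingEquiv.toRingHom.comp
      (Algebra.TensorProduct.includeRight (R := S) (A := A) (B := D)).toRingHom))
  have sqA : IsPullback qD (Spec.map (CommRingCat.ofHom (algebraMap A C)))
      (Spec.map (CommRingCat.ofHom (algebraMap S D))) (Spec.map (CommRingCat.ofHom (algebraMap S A))) := by
    refine (sq0.flip).of_iso (((pullbackSpecIso S A D) ≪≫
      Scheme.Spec.mapIso e.symm.toRingEquiv.toCommRingCatIso.op)) (Iso.refl _) (Iso.refl _) (Iso.refl _) ?_ ?_ ?_ ?_
    · rw [Iso.refl_hom, Category.comp_id, Iso.trans_hom, Category.assoc, ← pullbackSpecIso_hom_snd S A D]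
      congr 1
      rw [Functor.mapIso_hom]
      simp only [qD, Scheme.Spec_map, Iso.op_hom, Quiver.Hom.unop_op, ← Spec.map_comp]
      congr 1
      ext x
      exact (e.symm_apply_apply _).symm
    · rw [Iso.refl_hom, Category.comp_id, Iso.trans_hom, Category.assoc, ← pullbackSpecIso_hom_fst' S A D]
      congr 1
      rw [Functor.mapIso_hom]
      simp only [Scheme.Spec_map, Iso.op_hom, Quiver.Hom.unop_op, ← Spec.map_comp]
      congr 1
      ext x
      exact (e.symm.commutes x).symm
    · simp
    · simp
  let x₁ : Spec (CommRingCat.of D) := qD ⟨Q, inferInstance⟩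
  have hn₁ : NormAt (Spec.map (CommRingCat.ofHom (algebraMap S D))) x₁ := normAt_descend sqA hn
  haveI : Flat (Spec.map (CommRingCat.ofHom (algebraMap S D))) :=
    Flat.SpecMap_iff.mpr (RingHom.flat_algebraMap_iff.mpr inferInstance)
  haveI : LocallyOfFinitePresentation (Spec.map (CommRingCat.ofHom (algebraMap S D))) := by
    rw [HasRingHomProperty.Spec_iff (P := @LocallyOfFinitePresentation)]
    exact RingHom.finitePresentation_algebraMap.mpr inferInstance
  obtain ⟨_, ⟨h, rfl⟩, hh, hsub⟩ := PrimeSpectrum.isTopologicalBasis_basic_opens.exists_subset_of_mem_open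
    (show x₁ ∈ {x | ((Spec.map (CommRingCat.ofHom (algebraMap S D))).stalkMap x).hom.Flat ∧
      NormAt (Spec.map (CommRingCat.ofHom (algebraMap S D))) x} from ⟨Flat.stalkMap _ _, hn₁⟩)
    (isOpen_normAt _)
  let D' := Localization.Away h
  haveI : IsNoetherianRing D' := IsLocalization.isNoetherianRing (Submonoid.powers h) D' inferInstance
  haveI : Module.Flat D D' := IsLocalization.flat D' (Submonoid.powers h)
  haveI : Module.Flat S D' := Module.Flat.trans S D D'
  let j := Spec.map (CommRingCat.ofHom (algebraMap D D'))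
  haveI : IsOpenImmersion j := IsOpenImmersion.of_isLocalization h
  have hN : EGA4.IsNormalHom S D' := by
    refine isNormalHom_of_normAt S D' fun w => ?_
    refine normAt_restrict j (𝟙 _) ?_ ((hsub ?_).2)
    · rw [Category.comp_id, ← Spec.map_comp, ← CommRingCat.ofHom_comp, ← IsScalarTower.algebraMap_eq]
    · exact fun hw => (w.isPrime).ne_top ((Ideal.eq_top_iff_one _).2 (by
        obtain ⟨v, hv⟩ := (IsLocalization.map_units D' (⟨h, Submonoid.mem_powers h⟩ : Submonoid.powers h)).exists_left_inv
        rw [← hv]
        exact w.asIdeal.mul_mem_left v hw))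
  -- the local ring of the point
  let p := Q.comap (algebraMap A C)
  let B := Localization.AtPrime p
  let R := Localization.AtPrime Q
  let φD : D →+* C := e.toRingEquiv.toRingHom.comp (Algebra.TensorProduct.includeRight (R := S) (A := A) (B := D)).toRingHom
  have hφS : ∀ s : S, φD (algebraMap S D s) = algebraMap A C (algebraMap S A s) := fun s => by
    show e ((1 : A) ⊗ₜ[S] algebraMap S D s) = _
    rw [← e.commutes]
    congr 1
    exact (Algebra.TensorProduct.includeRight (R := S) (A := A) (B := D)).commutes s
  have hhQ : φD h ∉ Q := hh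
  letI : Algebra S C := ((algebraMap A C).comp (algebraMap S A)).toAlgebra
  haveI : IsScalarTower S A C := IsScalarTower.of_algebraMap_eq fun _ => rfl
  let α₀ : B →+* R := Localization.localRingHom p Q (algebraMap A C) rfl
  let α : B →ₐ[S] R := { α₀ with
    commutes' := fun s => by
      show α₀ (algebraMap S B s) = algebraMap S R s
      rw [IsScalarTower.algebraMap_apply S C R]
      rw [IsScalarTower.algebraMap_apply S A B]
      exact Localization.localRingHom_to_map _ _ _ _ _ }
  have hunit : IsUnit (algebraMap C R (φD h)) := IsLocalization.map_units R (⟨φD h, hhQ⟩ : Q.primeCompl)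
  let β₀ : D' →+* R := IsLocalization.Away.lift h (g := (algebraMap C R).comp φD) hunit
  let β : D' →ₐ[S] R := { β₀ with
    commutes' := fun s => by
      show β₀ (algebraMap S D' s) = algebraMap S R s
      rw [IsScalarTower.algebraMap_apply S C R]
      rw [IsScalarTower.algebraMap_apply S D D', IsLocalization.Away.lift_eq, RingHom.comp_apply, hφS]
      rfl }
  let π : B ⊗[S] D' →+* R := (Algebra.TensorProduct.productMap α β).toRingHom
  let q : Ideal (B ⊗[S] D') := (IsLocalRing.maximalIdeal R).comap π
  haveI : q.IsPrime := Ideal.IsPrime.comap _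
  have hq : q.comap (algebraMap B (B ⊗[S] D')) = IsLocalRing.maximalIdeal B := by
    ext b
    show π (b ⊗ₜ 1) ∈ IsLocalRing.maximalIdeal R ↔ _
    rw [show π (b ⊗ₜ 1) = α₀ b from by simp [π, α]]
    exact ((IsLocalRing.local_hom_TFAE α₀).out 0 4).1 (Localization.isLocalHom_localRingHom _ _ _ _) ▸ Iff.rfl
  have h2730 := (Groth.Agent.S2730.result S D' hN B hA q hq).1
  -- the identification
  let T := Localization.AtPrime q
  let γ : C →+* B ⊗[S] D' := ((Algebra.TensorProduct.map (IsScalarTower.toAlgHom S A B)
    (IsScalarTower.toAlgHom S D D')).toRingHom).comp e.symm.toRingEquiv.toRingHom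
  have hπγ : π.comp γ = algebraMap C R := by
    refine RingHom.ext fun c => ?_
    obtain ⟨t, rfl⟩ := e.surjective c
    show π ((Algebra.TensorProduct.map (IsScalarTower.toAlgHom S A B) (IsScalarTower.toAlgHom S D D')) (e.symm (e t))) = _
    rw [e.symm_apply_apply]
    induction t using TensorProduct.induction_on with
    | zero => simp
    | tmul a d =>
      show α₀ (algebraMap A B a) * β₀ (algebraMap D D' d) = _
      rw [Localization.localRingHom_to_map, IsLocalization.Away.lift_eq, RingHom.comp_apply, ← map_mul]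
      congr 1
      show algebraMap A C a * e ((1 : A) ⊗ₜ[S] d) = _
      rw [← e.commutes, ← map_mul]
      congr 1
      simp
    | add a b ha hb => rw [map_add, map_add, map_add, map_add, ha, hb]
  have hγQ : ∀ c : Q.primeCompl, IsUnit ((algebraMap (B ⊗[S] D') T).comp γ c) := fun c =>
    IsLocalization.map_units T (⟨γ c, fun hc => ((IsLocalization.AtPrime.to_map_mem_maximal_iff R Q c).1 (by
      have := RingHom.congr_fun hπγ c
      rw [← this]; exact hc)) |> c.2⟩ : q.primeCompl)
  let Γ : R →+* T := IsLocalization.lift hγQ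
  have hπq : ∀ z : q.primeCompl, IsUnit (π z) := fun z => by
    by_contra hz
    exact z.2 hz
  let PP : T →+* R := IsLocalization.lift hπq
  have h1 : PP.comp Γ = RingHom.id R := IsLocalization.ringHom_ext Q.primeCompl (RingHom.ext fun c => by
    show PP (Γ (algebraMap C R c)) = algebraMap C R c
    rw [IsLocalization.lift_eq, RingHom.comp_apply, IsLocalization.lift_eq]
    exact RingHom.congr_fun hπγ c)
  have h2 : Γ.comp PP = RingHom.id T := by
    refine IsLocalization.ringHom_ext q.primeCompl ?_
    refine RingHom.ext fun z => ?_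
    show Γ (PP (algebraMap _ T z)) = algebraMap _ T z
    rw [IsLocalization.lift_eq]
    induction z using TensorProduct.induction_on with
    | zero => simp
    | add a b ha hb => rw [map_add, map_add, map_add, ha, hb]
    | tmul b d =>
      have hb : Γ.comp α₀ = (algebraMap (B ⊗[S] D') T).comp Algebra.TensorProduct.includeLeftRingHom := by
        refine IsLocalization.ringHom_ext p.primeCompl (RingHom.ext fun a => ?_)
        show Γ (α₀ (algebraMap A B a)) = algebraMap _ T (algebraMap A B a ⊗ₜ[S] (1 : D'))
        rw [Localization.localRingHom_to_map, IsLocalization.lift_eq, RingHom.comp_apply]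
        congr 1
        show (Algebra.TensorProduct.map (IsScalarTower.toAlgHom S A B) (IsScalarTower.toAlgHom S D D'))
          (e.symm (algebraMap A C a)) = _
        rw [e.symm.commutes]
        simp
      have hd : Γ.comp β₀ = (algebraMap (B ⊗[S] D') T).comp
          (Algebra.TensorProduct.includeRight (R := S) (A := B) (B := D')).toRingHom := by
        refine IsLocalization.ringHom_ext (Submonoid.powers h) (RingHom.ext fun a => ?_)
        show Γ (β₀ (algebraMap D D' a)) = algebraMap _ T ((1 : B) ⊗ₜ[S] algebraMap D D' a)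
        rw [IsLocalization.Away.lift_eq, RingHom.comp_apply, IsLocalization.lift_eq, RingHom.comp_apply]
        congr 1
        show (Algebra.TensorProduct.map (IsScalarTower.toAlgHom S A B) (IsScalarTower.toAlgHom S D D'))
          (e.symm (e ((1 : A) ⊗ₜ[S] a))) = _
        rw [e.symm_apply_apply]
        simp
      have hb' := RingHom.congr_fun hb b
      have hd' := RingHom.congr_fun hd d
      rw [RingHom.comp_apply, RingHom.comp_apply] at hb' hd'
      show Γ (α₀ b * β₀ d) = _
      rw [map_mul, hb', hd', ← map_mul]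
      congr 1
      simp
  exact GrothLib.BrnchNhd.isGeomUnibranch_of_ringEquiv (RingEquiv.ofRingHom PP Γ h1 h2) h2730

end GrothLib.GeomNorm5
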